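import Cfsg.Agent.SylT.EmbPsl
import Cfsg.Agent.Known.PSLAutMain
import Cfsg.Agent.Known.ElusX6
import Cfsg.Agent.Class.SLCenter

/-! # The unitriangular subgroup of `PSL₃(4)` and automorphisms -/

set_option autoImplicit false

namespace Cfsg.Lib.StdHe

open Subgroup Cfsg.Lib.Trans Cfsg.Lib.Gold Cfsg.Lib.Gomi Cfsg.Lib.Known Matrix

variable {F : Type*} [Field F]

/-- A unitriangular matrix. -/
def mU (a b c : F) : SpecialLinearGroup (Fin 3) F :=
  ⟨!![1, a, c; 0, 1, b; 0, 0, 1], by simp [det_fin_three]⟩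

/-- The class of a unitriangular matrix. -/
def uU (a b c : F) : ProjectiveSpecialLinearGroup (Fin 3) F := QuotientGroup.mk (mU a b c)

theorem coe_mU (a b c : F) : (mU a b c).1 = !![1, a, c; 0, 1, b; 0, 0, 1] := rfl

theorem field_mU (σ : RingAut F) (a b c : F) :
    fieldSL _ F σ (mU a b c) = mU (σ a) (σ b) (σ c) := by
  refine Subtype.ext ?_
  rw [coe_fieldSL]
  ext i j
  fin_cases i <;> fin_cases j <;> simp [coe_mU]

theorem mU_mul (a b c a' b' c' : F) :
    mU a b c * mU a' b' c' = mU (a + a') (b + b') (c + c' + a * b') := by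
  refine Subtype.ext ?_
  change (!![1, a, c; 0, 1, b; 0, 0, 1] * !![1, a', c'; 0, 1, b'; 0, 0, 1] :
    Matrix (Fin 3) (Fin 3) F) = _
  ext i j
  fin_cases i <;> fin_cases j <;> simp [mU, Matrix.mul_apply, Fin.sum_univ_three] <;> ring

theorem mU_zero : mU (0 : F) 0 0 = 1 := by
  ext i j
  fin_cases i <;> fin_cases j <;> simp [mU]

theorem hsU : Hs (uU (F := F)) :=
  ⟨fun a b c a' b' c' => by rw [uU, uU, ← QuotientGroup.mk_mul, mU_mul, uU],
    fun {a b c a' b' c'} e => by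
      obtain ⟨t, ht⟩ := PSL_mk_eq_mk_iff.1 e
      have e00 := congrFun (congrFun ht 0) 0
      have e01 := congrFun (congrFun ht 0) 1
      have e02 := congrFun (congrFun ht 0) 2
      have e12 := congrFun (congrFun ht 1) 2
      simp [mU] at e00 e01 e02 e12
      simp [e01, e02, e12, ← e00]⟩

theorem exists_torus {ω : F} (h : ω * ω * ω = 1) : ∃ d : ProjectiveSpecialLinearGroup (Fin 3) F,
    ∀ a b c, d * uU a b c * d⁻¹ = uU (ω * a) (ω * b) (ω * ω * c) := by
  let d : SpecialLinearGroup (Fin 3) F :=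
    ⟨!![ω * ω, 0, 0; 0, ω, 0; 0, 0, 1], by simp [det_fin_three, h]⟩
  refine ⟨QuotientGroup.mk d, fun a b c => ?_⟩
  rw [mul_inv_eq_iff_eq_mul, uU, uU, ← QuotientGroup.mk_mul, ← QuotientGroup.mk_mul]
  refine congrArg _ (Subtype.ext ?_)
  change (!![ω * ω, 0, 0; 0, ω, 0; 0, 0, 1] * !![1, a, c; 0, 1, b; 0, 0, 1] :
    Matrix (Fin 3) (Fin 3) F) = !![1, ω * a, ω * ω * c; 0, 1, ω * b; 0, 0, 1] *
      !![ω * ω, 0, 0; 0, ω, 0; 0, 0, 1]
  ext i j
  fin_cases i <;> fin_cases j <;> simp [Matrix.mul_apply, Fin.sum_univ_three]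
  ring

variable [Finite F] [CharP F 2]

theorem sylU : IsSylowIn 2 (hsU (F := F)).S ⊤ := by
  have h1 : (hsU (F := F)).S = (uniTri 3 F).map (QuotientGroup.mk' _) := by
    ext g
    rw [hsU.mem_S]
    constructor
    · rintro ⟨a, b, c, rfl⟩
      refine ⟨mU a b c, mem_uniTri.2 ⟨fun i j hij => ?_, fun i => ?_⟩, rfl⟩
      · fin_cases i <;> fin_cases j <;> simp [mU] at hij ⊢
      · fin_cases i <;> simp [mU]
    · rintro ⟨s, hs, rfl⟩
      obtain ⟨h2, h3⟩ := mem_uniTri.1 hs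
      refine ⟨s.1 0 1, s.1 1 2, s.1 0 2, congrArg QuotientGroup.mk ?_⟩
      have e10 : s.1 1 0 = 0 := h2 (by decide)
      have e20 : s.1 2 0 = 0 := h2 (by decide)
      have e21 : s.1 2 1 = 0 := h2 (by decide)
      ext i j
      fin_cases i <;> fin_cases j <;> simp [mU, h3, e10, e20, e21]
  refine ⟨le_top, h1 ▸ (isPGroup_uniTri 2).map _, ?_⟩
  rw [relIndex_top_right, h1]
  exact fun h => not_dvd_index_uniTri 2 (h.trans (index_map_dvd _ (QuotientGroup.mk'_surjective _)))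

omit [Finite F] in
theorem mU_sq {a b : F} (h : a * b = 0) (c : F) : mU a b c ^ 2 = 1 := by
  rw [pow_two, mU_mul, h, ← mU_zero]
  simp only [CharTwo.add_self_eq_zero]

theorem aut_eq (β : MulAut (ProjectiveSpecialLinearGroup (Fin 3) F))
    (h1 : ∀ a, ∃ c, β (uU a 0 0) = uU a 0 c) (h2 : ∃ c, β (uU 0 1 0) = uU 0 1 c) :
    ∃ a b c, β = MulAut.conj (uU a b c) := by
  have k : ∀ (g : GL (Fin 3) F) (s : SpecialLinearGroup (Fin 3) F) {a b c}, s ^ 2 = 1 → a * b = 0 →
      innD _ F g (QuotientGroup.mk s) = uU a b c → ∀ i j, (g.1 * s.1) i j = ((mU a b c).1 * g.1) i j :=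
    fun g s a b c hs hab e i j => by
      rw [← eq_of_PSL_mk_eq_of_pow_char 2 (by rw [← map_pow, hs, map_one]) (mU_sq hab c)
        ((innD_mk g s).symm.trans e), coe_conjSL, mul_assoc, ← Units.val_mul, inv_mul_cancel,
        Units.val_one, mul_one]
  obtain ⟨g, σ, e⟩ := PSL_aut_eq (by omega) β
  obtain ⟨c, e2⟩ := h2
  obtain ⟨d, e1⟩ := h1 1
  have hd := g.det_ne_zero
  rw [det_fin_three] at hd
  rcases e with rfl | rfl
  · rw [MulAut.mul_apply, uU, fieldAut_mk, field_mU] at e1 e2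
    have k1 := k g _ (mU_sq (by simp) _) (by simp) e1
    have k2 := k g _ (mU_sq (by simp) _) (by simp) e2
    have e10 : g.1 1 0 = 0 := by simpa [coe_mU, Matrix.mul_apply, Fin.sum_univ_three] using k1 1 1
    have e20 : g.1 2 0 = 0 := by simpa [coe_mU, Matrix.mul_apply, Fin.sum_univ_three] using k1 2 1
    have e21 : g.1 2 1 = 0 := by simpa [coe_mU, Matrix.mul_apply, Fin.sum_univ_three] using k2 2 2
    have e11 : g.1 1 1 = g.1 0 0 := by
      simpa [coe_mU, Matrix.mul_apply, Fin.sum_univ_three, e21, add_comm (g.1 0 0)] using (k1 0 1).symm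
    have e22 : g.1 2 2 = g.1 0 0 := by
      simpa [coe_mU, Matrix.mul_apply, Fin.sum_univ_three, e11, add_comm (g.1 0 0)] using (k2 1 2).symm
    have h0 : g.1 0 0 ≠ 0 := fun e => hd (by simp [e, e10, e20])
    obtain rfl : σ = 1 := RingEquiv.ext fun a => by
      obtain ⟨d, e1⟩ := h1 a
      rw [MulAut.mul_apply, uU, fieldAut_mk, field_mU] at e1
      have := k g _ (mU_sq (by simp) _) (by simp) e1 0 1
      simpa [coe_mU, Matrix.mul_apply, Fin.sum_univ_three, e21, e11, add_comm (g.1 0 1), mul_comm a, h0]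
        using this
    refine ⟨g.1 0 1 / g.1 0 0, g.1 1 2 / g.1 0 0, g.1 0 2 / g.1 0 0, ?_⟩
    rw [map_one, mul_one, uU, ← innD_toGL, eq_comm, innD_eq_iff]
    refine ⟨Units.mk0 _ h0, Units.ext ?_⟩
    change g.1 = (mU _ _ _).1 * scalar _ (g.1 0 0)
    ext i j
    fin_cases i <;> fin_cases j <;>
      simp [coe_mU, Matrix.mul_apply, Fin.sum_univ_three, e10, e20, e21, e11, e22, h0]
  · rw [MulAut.mul_apply, MulAut.mul_apply, uU, graphAut_mk, fieldAut_mk] at e1 e2
    have k1 := k g _ (by rw [← map_pow, ← map_pow, mU_sq (by simp), map_one, map_one]) (by simp) e2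
    rw [coe_fieldSL, coe_graphSL, inv_eq_of_mul_eq_one_right
      ((pow_two _).symm.trans (mU_sq (by simp) _))] at k1
    have k2 := k g _ (by rw [← map_pow, ← map_pow, mU_sq (by simp), map_one, map_one]) (by simp) e1
    rw [coe_fieldSL, coe_graphSL, inv_eq_of_mul_eq_one_right
      ((pow_two _).symm.trans (mU_sq (by simp) _))] at k2
    have e21 : g.1 2 1 = 0 := by simpa [coe_mU, Matrix.mul_apply, Fin.sum_univ_three] using k2 2 0
    have e22 : g.1 2 2 = 0 := by simpa [coe_mU, Matrix.mul_apply, Fin.sum_univ_three] using k1 2 1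
    have e12 : g.1 1 2 = 0 := by simpa [coe_mU, Matrix.mul_apply, Fin.sum_univ_three, e21] using k1 1 1
    have e02 : g.1 0 2 = 0 := by simpa [coe_mU, Matrix.mul_apply, Fin.sum_univ_three, e21] using k1 0 1
    exact (hd (by simp [e22, e12, e02])).elim

theorem C1_le {F : Type*} [Field F] [Fintype F] (hF : Fintype.card F = 4) {c : F} (hc : c ≠ 0) :
    C1 (uU 0 0 c) ≤ hsU.S := fun g hg => by
  have := L34.charP_four hF
  obtain ⟨s, rfl⟩ := QuotientGroup.mk_surjective g
  have h4 : s.1 * (mU 0 0 c).1 = (mU 0 0 c).1 * s.1 := congrArg Subtype.val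
    (commute_of_commute_PSL_mk 2 (mU_sq (by simp) c) (mem_C1.1 hg)).eq
  have h5 := fun i j => congrFun (congrFun h4 i) j
  have e10 : s.1 1 0 = 0 := by simpa [coe_mU, Matrix.mul_apply, Fin.sum_univ_three, hc] using h5 1 2
  have e20 : s.1 2 0 = 0 := by simpa [coe_mU, Matrix.mul_apply, Fin.sum_univ_three, hc] using h5 2 2
  have e21 : s.1 2 1 = 0 := by simpa [coe_mU, Matrix.mul_apply, Fin.sum_univ_three, hc] using h5 0 1
  have e22 : s.1 2 2 = s.1 0 0 := by
    simpa [coe_mU, Matrix.mul_apply, Fin.sum_univ_three, hc, add_comm (s.1 0 2), mul_comm c]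
      using (h5 0 2).symm
  have hd : s.1 0 0 * s.1 1 1 * s.1 0 0 = 1 := by
    have := s.det_coe
    rw [det_fin_three, e10, e20, e21, e22] at this
    linear_combination this
  have h00 : s.1 0 0 ≠ 0 := fun e => by simp [e] at hd
  have e11 : s.1 1 1 = s.1 0 0 := by
    have := FiniteField.pow_card_sub_one_eq_one _ h00
    rw [hF] at this
    linear_combination s.1 0 0 * hd - s.1 1 1 * this
  refine hsU.mem_S.2 ⟨s.1 0 1 / s.1 0 0, s.1 1 2 / s.1 0 0, s.1 0 2 / s.1 0 0,
    PSL_mk_eq_mk_iff.2 ⟨s.1 0 0, ?_⟩⟩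
  ext i j
  fin_cases i <;> fin_cases j <;> simp [coe_mU, e10, e20, e21, e22, e11, mul_div_cancel₀ _ h00]

theorem card_psl {F : Type*} [Field F] [Fintype F] (hF : Fintype.card F = 4) :
    Nat.card (ProjectiveSpecialLinearGroup (Fin 3) F) = 20160 := by
  have := card_eq_card_quotient_mul_card_subgroup (center (SpecialLinearGroup (Fin 3) F))
  rw [Class.card_center_SL (by simp), card_SL_eq_range, Nat.card_eq_fintype_card (α := F), hF] at this
  change 60480 = Nat.card (ProjectiveSpecialLinearGroup (Fin 3) F) * 3 at this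
  omega

end Cfsg.Lib.StdHe
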